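import Groth.Agent.IdealDepth.Localization
import Groth.Agent.CMLocal.SOP
import Mathlib.RingTheory.KrullDimension.Regular
import Mathlib.RingTheory.KrullDimension.Module

/-!
# Depth versus dimension; Cohen-Macaulay modules
-/

set_option autoImplicit false

universe u

open RingTheory.Sequence IsLocalRing
open scoped Pointwise

noncomputable section

namespace Groth.Agent.IdealDepth

variable {R : Type u} [CommRing R]

lemma coheight_eq_ringKrullDim_quotient (q : PrimeSpectrum R) :
    ((Order.coheight q : ℕ∞) : WithBot ℕ∞) = ringKrullDim (R ⧸ q.asIdeal) := by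
  rw [ringKrullDim_quotient, Order.coheight_eq_krullDim_Ici]
  exact Order.krullDim_eq_of_orderIso
    (OrderIso.setCongr _ _ (Set.ext fun x => Iff.rfl))

variable {M : Type u} [AddCommGroup M] [Module R M]

lemma annihilator_le_of_mem {p : Ideal R} (hp : p ∈ associatedPrimes R M) : Module.annihilator R M ≤ p := by
  have := IsAssociatedPrime.annihilator_le hp
  rwa [Submodule.annihilator_top] at this

lemma ringKrullDim_quotient_le_supportDim [Module.Finite R M] {p : Ideal R}
    (hp : Module.annihilator R M ≤ p) : ringKrullDim (R ⧸ p) ≤ Module.supportDim R M := by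
  rw [Module.supportDim_eq_ringKrullDim_quotient_annihilator]
  exact ringKrullDim_le_of_surjective (Ideal.Quotient.factor hp) (Ideal.Quotient.factor_surjective hp)

/-- `dim M_p + dim R/p ≤ dim M` -/
theorem supportDim_atPrime_add_le [Module.Finite R M] (p : PrimeSpectrum R) (hp : p ∈ Module.support R M) :
    Module.supportDim (Localization.AtPrime p.asIdeal) (LocalizedModule p.asIdeal.primeCompl M) +
      ringKrullDim (R ⧸ p.asIdeal) ≤ Module.supportDim R M := by
  let x : Module.support R M := ⟨p, hp⟩
  haveI : Nonempty (Module.support R M) := ⟨x⟩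
  have h1 : Module.supportDim (Localization.AtPrime p.asIdeal) (LocalizedModule p.asIdeal.primeCompl M) ≤
      ((Order.height x : ℕ∞) : WithBot ℕ∞) := by
    rw [Order.height_eq_krullDim_Iic]
    refine Order.krullDim_le_of_strictMono (fun q => ⟨⟨⟨q.1.asIdeal.comap (algebraMap R _), inferInstance⟩, ?_⟩, ?_⟩) ?_
    · rw [Module.mem_support_iff_of_finite]
      intro a ha
      refine Module.mem_support_iff_of_finite.1 q.2 (Module.mem_annihilator.2 fun m => ?_)
      induction m using LocalizedModule.induction_on with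
      | _ m s => rw [algebraMap_smul, LocalizedModule.smul'_mk, Module.mem_annihilator.1 ha m, LocalizedModule.zero_mk]
    · intro a ha
      by_contra hap
      exact q.1.isPrime.ne_top (Ideal.eq_top_of_isUnit_mem _ ha
        (IsLocalization.map_units (Localization.AtPrime p.asIdeal) (⟨a, hap⟩ : p.asIdeal.primeCompl)))
    · intro a b hab
      exact (IsLocalization.orderEmbedding p.asIdeal.primeCompl (Localization.AtPrime p.asIdeal)).strictMono hab
  have h2 : ringKrullDim (R ⧸ p.asIdeal) ≤ ((Order.coheight x : ℕ∞) : WithBot ℕ∞) := by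
    rw [ringKrullDim_quotient, Order.coheight_eq_krullDim_Ici]
    exact Order.krullDim_le_of_strictMono
      (fun q => ⟨⟨q.1, Module.mem_support_mono q.2 hp⟩, q.2⟩) fun a b hab => hab
  refine (add_le_add h1 h2).trans ?_
  rw [← WithBot.coe_add]
  exact le_trans (by exact_mod_cast le_iSup (fun a : Module.support R M => Order.height a + Order.coheight a) x)
    Order.krullDim_eq_iSup_height_add_coheight_of_nonempty.ge

variable [IsLocalRing R] [IsNoetherianRing R] [Module.Finite R M]

theorem depth_le_ringKrullDim_quotient {p : Ideal R} (hp : p ∈ associatedPrimes R M) :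
    ((LocCoh.depth R M : ℕ∞) : WithBot ℕ∞) ≤ ringKrullDim (R ⧸ p) := by
  rw [← coheight_eq_ringKrullDim_quotient ⟨p, hp.isPrime⟩, WithBot.coe_le_coe]
  refine ENat.forall_natCast_le_iff_le.1 fun n hn => ?_
  exact CMLocal.SOP.le_coheight n M (natCast_le_iff_ext.1 hn) ⟨p, hp.isPrime⟩ hp

theorem depth_le_supportDim [Nontrivial M] :
    ((LocCoh.depth R M : ℕ∞) : WithBot ℕ∞) ≤ Module.supportDim R M := by
  obtain ⟨p, hp⟩ := associatedPrimes.nonempty R M
  refine (depth_le_ringKrullDim_quotient hp).trans (ringKrullDim_quotient_le_supportDim ?_)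
  exact (annihilator_le_of_mem hp)

theorem smul_top_ne_top [Nontrivial M] {I : Ideal R} (hI : I ≠ ⊤) : I • (⊤ : Submodule R M) ≠ ⊤ :=
  (Submodule.top_ne_ideal_smul_of_le_jacobson_annihilator
    ((IsLocalRing.le_maximalIdeal hI).trans (IsLocalRing.maximalIdeal_le_jacobson _))).symm

theorem idealDepth_ne_top [Nontrivial M] {I : Ideal R} (hI : I ≠ ⊤) : LocCoh.idealDepth I M ≠ ⊤ :=
  ne_top (smul_top_ne_top hI)

theorem nontrivial_of_cm (h : LocCoh.IsCohenMacaulayModule R M) : Nontrivial M := by
  rw [← Module.supportDim_ne_bot_iff_nontrivial R, h]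
  exact WithBot.coe_ne_bot

theorem cm_ringKrullDim_quotient (h : LocCoh.IsCohenMacaulayModule R M) {p : Ideal R}
    (hp : p ∈ associatedPrimes R M) : ringKrullDim (R ⧸ p) = Module.supportDim R M :=
  le_antisymm (ringKrullDim_quotient_le_supportDim (annihilator_le_of_mem hp))
    (h ▸ depth_le_ringKrullDim_quotient hp)

theorem cm_quotSMulTop (h : LocCoh.IsCohenMacaulayModule R M) {x : R} (hx : x ∈ maximalIdeal R)
    (hreg : IsSMulRegular M x) : LocCoh.IsCohenMacaulayModule R (QuotSMulTop x M) := by
  unfold LocCoh.IsCohenMacaulayModule at h ⊢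
  have h1 := Module.supportDim_quotSMulTop_succ_eq_supportDim hreg hx
  rw [h, LocCoh.depth, ← add_one_eq hx hreg, WithBot.coe_add, WithBot.coe_one] at h1
  exact withBotENat_add_one_inj h1
where
  withBotENat_add_one_inj {a b : WithBot ℕ∞} (h : a + 1 = b + 1) : a = b := by
    induction a <;> induction b
    · rfl
    · simp [← WithBot.coe_one, ← WithBot.coe_add] at h
    · simp [← WithBot.coe_one, ← WithBot.coe_add] at h
    · rename_i a b
      rw [← WithBot.coe_one, ← WithBot.coe_add, ← WithBot.coe_add, WithBot.coe_inj] at h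
      rw [(ENat.add_left_injective_of_ne_top (by simp)) h]

/-- `dim M = dim M/IM + depth_I M` for Cohen-Macaulay modules -/
theorem supportDim_eq_add_aux (I : Ideal R) (hI : I ≠ ⊤) : ∀ (n : ℕ) (M : Type u) [AddCommGroup M] [Module R M]
    [Module.Finite R M], LocCoh.IsCohenMacaulayModule R M → LocCoh.idealDepth I M = n →
    Module.supportDim R M = Module.supportDim R (M ⧸ (I • (⊤ : Submodule R M))) + ((n : ℕ∞) : WithBot ℕ∞)
  | 0, M, _, _, _, h, hd => by
    obtain ⟨p, hp, hle⟩ := eq_zero_iff.1 (by rw [hd]; rfl)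
    haveI := hp.isPrime
    refine le_antisymm ?_ ?_
    · rw [← cm_ringKrullDim_quotient h hp]
      simp only [CharP.cast_eq_zero, WithBot.coe_zero, add_zero, Module.supportDim]
      rw [ringKrullDim_quotient]
      refine Order.krullDim_le_of_strictMono (fun q => ⟨q.1, ?_⟩) fun a b hab => hab
      rw [Module.support_quotient, Module.support_eq_zeroLocus]
      exact ⟨fun a ha => q.2 ((annihilator_le_of_mem hp) ha), fun a ha => q.2 (hle ha)⟩
    · simpa using Module.supportDim_le_of_surjective _ (Submodule.mkQ_surjective (I • (⊤ : Submodule R M)))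
  | n + 1, M, _, _, _, h, hd => by
    obtain ⟨x, hx, hreg⟩ := one_le_iff_exists.1 (by rw [hd]; simp : 1 ≤ LocCoh.idealDepth I M)
    have hxm : x ∈ maximalIdeal R := IsLocalRing.le_maximalIdeal hI hx
    have hd' : LocCoh.idealDepth I (QuotSMulTop x M) = n := by
      have := add_one_eq hx hreg
      rw [hd, Nat.cast_succ] at this
      exact ENat.add_left_injective_of_ne_top (by simp) this
    have ih := supportDim_eq_add_aux I hI n (QuotSMulTop x M) (cm_quotSMulTop h hxm hreg) hd'
    have hsupp : Module.supportDim R (QuotSMulTop x M ⧸ (I • (⊤ : Submodule R (QuotSMulTop x M)))) =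
        Module.supportDim R (M ⧸ (I • (⊤ : Submodule R M))) := by
      simp only [Module.supportDim]
      rw [Module.support_quotient, Module.support_quotient, Module.support_quotSMulTop, Set.inter_assoc,
        Set.inter_eq_right.2 (PrimeSpectrum.zeroLocus_anti_mono (Set.singleton_subset_iff.2 hx))]
    rw [hsupp] at ih
    rw [← Module.supportDim_quotSMulTop_succ_eq_supportDim hreg hxm, ih, Nat.cast_succ, WithBot.coe_add,
      WithBot.coe_one, add_assoc]

theorem supportDim_eq_add (I : Ideal R) (hI : I ≠ ⊤) (h : LocCoh.IsCohenMacaulayModule R M) :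
    Module.supportDim R M = Module.supportDim R (M ⧸ (I • (⊤ : Submodule R M))) +
      ((LocCoh.idealDepth I M : ℕ∞) : WithBot ℕ∞) := by
  haveI := nontrivial_of_cm h
  obtain ⟨n, hn⟩ := ENat.ne_top_iff_exists.1 (idealDepth_ne_top (M := M) hI)
  rw [← hn]
  exact supportDim_eq_add_aux I hI n M h hn.symm

/-- localizations of Cohen-Macaulay modules are Cohen-Macaulay; and `dim M = dim M/pM + dim M_p` -/
theorem cm_atPrime (h : LocCoh.IsCohenMacaulayModule R M) (p : PrimeSpectrum R) (hp : p ∈ Module.support R M) :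
    LocCoh.IsCohenMacaulayModule (Localization.AtPrime p.asIdeal) (LocalizedModule p.asIdeal.primeCompl M) ∧
    Module.supportDim R M = Module.supportDim R (M ⧸ (p.asIdeal • (⊤ : Submodule R M))) +
        Module.supportDim (Localization.AtPrime p.asIdeal) (LocalizedModule p.asIdeal.primeCompl M) := by
  haveI := nontrivial_of_cm h
  haveI : Nontrivial (LocalizedModule p.asIdeal.primeCompl M) := hp
  have hq : Module.supportDim R (M ⧸ (p.asIdeal • (⊤ : Submodule R M))) = ringKrullDim (R ⧸ p.asIdeal) := by
    simp only [Module.supportDim]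
    rw [ringKrullDim_quotient]
    refine Order.krullDim_eq_of_orderIso (OrderIso.setCongr _ _ ?_)
    rw [Module.support_quotient, Set.inter_eq_right]
    exact fun q hq => Module.mem_support_mono hq hp
  have h1 := supportDim_eq_add p.asIdeal p.isPrime.ne_top h
  rw [hq] at h1 ⊢
  have h2 := supportDim_atPrime_add_le p hp
  have h3 : ((LocCoh.idealDepth p.asIdeal M : ℕ∞) : WithBot ℕ∞) ≤
      ((LocCoh.depth (Localization.AtPrime p.asIdeal) (LocalizedModule p.asIdeal.primeCompl M) : ℕ∞) : WithBot ℕ∞) :=
    WithBot.coe_le_coe.2 (idealDepth_le_depth p.asIdeal le_rfl)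
  have h4 := depth_le_supportDim (R := Localization.AtPrime p.asIdeal) (M := LocalizedModule p.asIdeal.primeCompl M)
  obtain ⟨a, ha⟩ : ∃ a : ℕ, ringKrullDim (R ⧸ p.asIdeal) = (a : WithBot ℕ∞) := by
    haveI := p.isPrime
    haveI := IsLocalRing.of_surjective' (Ideal.Quotient.mk p.asIdeal) Ideal.Quotient.mk_surjective
    obtain ⟨a, ha⟩ := exists_nat (ringKrullDim (R ⧸ p.asIdeal))
      (ne_bot_of_le_ne_bot WithBot.coe_ne_bot ringKrullDim_nonneg_of_nontrivial) ringKrullDim_ne_top
    exact ⟨a, ha⟩
  have h5 : Module.supportDim (Localization.AtPrime p.asIdeal) (LocalizedModule p.asIdeal.primeCompl M) ≤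
      ((LocCoh.idealDepth p.asIdeal M : ℕ∞) : WithBot ℕ∞) := by
    rw [h1, ha, add_comm] at h2
    exact cancel h2
  refine ⟨le_antisymm (h5.trans h3) h4, h1.trans ?_⟩
  rw [le_antisymm (h3.trans h4) h5]
where
  exists_nat (d : WithBot ℕ∞) (hb : d ≠ ⊥) (ht : d ≠ ⊤) : ∃ a : ℕ, d = (a : WithBot ℕ∞) := by
    induction d with
    | bot => exact absurd rfl hb
    | coe d =>
      induction d with
      | top => exact absurd rfl ht
      | coe a => exact ⟨a, rfl⟩
  cancel {x y : WithBot ℕ∞} {a : ℕ} (h : (a : WithBot ℕ∞) + x ≤ (a : WithBot ℕ∞) + y) : x ≤ y := by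
    induction x with
    | bot => exact bot_le
    | coe x =>
      induction y with
      | bot => simp at h
      | coe y =>
        rw [show (a : WithBot ℕ∞) = ((a : ℕ∞) : WithBot ℕ∞) from rfl, ← WithBot.coe_add, ← WithBot.coe_add,
          WithBot.coe_le_coe] at h
        exact WithBot.coe_le_coe.2 ((ENat.add_le_add_iff_left (by simp)).1 h)

end Groth.Agent.IdealDepth
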