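import Groth.Agent.IdealDepth.Basic
import Mathlib.RingTheory.Regular.Flat
import Mathlib.RingTheory.Localization.BaseChange
import Mathlib.RingTheory.Localization.Finiteness
import Mathlib.RingTheory.Ideal.AssociatedPrime.Localization
import Mathlib.RingTheory.QuotSMulTop
import Mathlib.RingTheory.Support

/-!
# `idealDepth` and localization; change of rings
* `idealDepth_le_depth`, `idealDepth_eq_iInf`;
* `idealDepth_map` (change of rings along any `R → S`, `M` finite over Noetherian `S`).
-/

set_option autoImplicit false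

universe u v

open RingTheory.Sequence
open scoped Pointwise TensorProduct

noncomputable section

namespace Groth.Agent.IdealDepth

variable {R : Type u} [CommRing R]

/-- a regular sequence in `I ≤ p` bounds the depth at `p` from below -/
theorem len_le_depth {I : Ideal R} {M : Type v} [AddCommGroup M] [Module R M] {rs : List R} (h : Reg I M rs)
    (p : Ideal R) [p.IsPrime] (hp : I ≤ p) :
    (rs.length : ℕ∞) ≤ LocCoh.depth (Localization.AtPrime p) (LocalizedModule p.primeCompl M) := by
  have h1 : Reg (IsLocalRing.maximalIdeal (Localization.AtPrime p)) (LocalizedModule p.primeCompl M)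
      (rs.map (algebraMap R (Localization.AtPrime p))) := by
    refine ⟨h.1.of_isLocalizedModule (Localization.AtPrime p) p.primeCompl
      (LocalizedModule.mkLinearMap p.primeCompl M), fun r hr => ?_⟩
    obtain ⟨a, ha, rfl⟩ := List.mem_map.1 hr
    exact (IsLocalization.AtPrime.to_map_mem_maximal_iff (Localization.AtPrime p) p a).2 (hp (h.2 a ha))
  simpa [LocCoh.depth] using len_le h1

/-- the localization of `M/xM` -/
def quotLocEquiv (M : Type v) [AddCommGroup M] [Module R M] (x : R) (S : Submonoid R) :
    LocalizedModule S (QuotSMulTop x M) ≃ₗ[Localization S]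
      QuotSMulTop (algebraMap R (Localization S) x) (LocalizedModule S M) :=
  LocalizedModule.equivTensorProduct S (QuotSMulTop x M) ≪≫ₗ
    ((QuotSMulTop.algebraMapTensorEquivTensorQuotSMulTop x M (Localization S)).symm ≪≫ₗ
      QuotSMulTop.congr _ (LocalizedModule.equivTensorProduct S M).symm)

variable [IsNoetherianRing R] {I : Ideal R} {M : Type u} [AddCommGroup M] [Module R M] [Module.Finite R M]

theorem idealDepth_le_depth (p : Ideal R) [p.IsPrime] (hp : I ≤ p) :
    LocCoh.idealDepth I M ≤ LocCoh.depth (Localization.AtPrime p) (LocalizedModule p.primeCompl M) := by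
  refine ENat.forall_natCast_le_iff_le.1 fun n hn => ?_
  obtain ⟨rs, hrs, rfl⟩ := natCast_le_iff_exists.1 hn
  exact len_le_depth hrs p hp

theorem natCast_le_of_forall_depth : ∀ (n : ℕ) (M : Type u) [AddCommGroup M] [Module R M] [Module.Finite R M],
    (∀ (p : Ideal R) [p.IsPrime], I ≤ p →
      (n : ℕ∞) ≤ LocCoh.depth (Localization.AtPrime p) (LocalizedModule p.primeCompl M)) →
    (n : ℕ∞) ≤ LocCoh.idealDepth I M
  | 0, M, _, _, _, _ => by simp
  | n + 1, M, _, _, _, h => by
    have h1 : 1 ≤ LocCoh.idealDepth I M := by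
      rw [one_le_iff_associatedPrimes]
      intro p hp hle
      haveI := hp.isPrime
      have h2 : LocCoh.depth (Localization.AtPrime p) (LocalizedModule p.primeCompl M) = 0 :=
        eq_zero_iff.2 ⟨_, Module.associatedPrimes.mem_associatedPrimes_atPrime_of_mem_associatedPrimes hp, le_rfl⟩
      have h3 := h p hle
      rw [h2, nonpos_iff_eq_zero] at h3
      exact Nat.succ_ne_zero n (by exact_mod_cast h3)
    obtain ⟨x, hx, hreg⟩ := one_le_iff_exists.1 h1
    have ih := natCast_le_of_forall_depth n (QuotSMulTop x M) fun p hpr hle => by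
      unfold LocCoh.depth
      rw [congr _ (quotLocEquiv M x p.primeCompl)]
      refine (ENat.add_le_add_iff_right (k := 1) (by simp)).1 ?_
      refine le_of_le_of_eq (h p hle) (add_one_eq ?_ ?_).symm
      · exact (IsLocalization.AtPrime.to_map_mem_maximal_iff (Localization.AtPrime p) p x).2 (hle hx)
      · have hw : IsWeaklyRegular M [x] := by simpa [isWeaklyRegular_cons_iff] using hreg
        have := hw.of_isLocalizedModule (Localization.AtPrime p) p.primeCompl
          (LocalizedModule.mkLinearMap p.primeCompl M)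
        simpa [isWeaklyRegular_cons_iff] using this
    rw [← add_one_eq hx hreg]
    push_cast
    gcongr

/-- depth along `I` is the infimum of the depths at the primes containing `I` -/
theorem idealDepth_eq_iInf : LocCoh.idealDepth I M = ⨅ (p : PrimeSpectrum R) (_ : I ≤ p.asIdeal),
    LocCoh.depth (Localization.AtPrime p.asIdeal) (LocalizedModule p.asIdeal.primeCompl M) := by
  refine le_antisymm (le_iInf₂ fun p hp => idealDepth_le_depth p.asIdeal hp) ?_
  refine ENat.forall_natCast_le_iff_le.1 fun n hn => natCast_le_of_forall_depth n M fun p _ hp => ?_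
  exact hn.trans (iInf₂_le (⟨p, inferInstance⟩ : PrimeSpectrum R) hp)

theorem congr_radical {J : Ideal R} (h : ∀ p : Ideal R, p.IsPrime → (I ≤ p ↔ J ≤ p)) :
    LocCoh.idealDepth I M = LocCoh.idealDepth J M := by
  rw [idealDepth_eq_iInf, idealDepth_eq_iInf]
  exact iInf_congr fun p => iInf_congr_Prop (h _ p.isPrime) fun _ => rfl

end Groth.Agent.IdealDepth

namespace Groth.Agent.IdealDepth

section ChangeRings

variable {A : Type v} [CommRing A] {S : Type u} [CommRing S] [Algebra A S]

lemma exists_list [IsNoetherianRing S] (a : Ideal A) : ∀ (n : ℕ) (M : Type u) [AddCommGroup M] [Module S M]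
    [Module.Finite S M], (n : ℕ∞) ≤ LocCoh.idealDepth (a.map (algebraMap A S)) M →
      ∃ rs : List A, rs.length = n ∧ (∀ r ∈ rs, r ∈ a) ∧ IsWeaklyRegular M (rs.map (algebraMap A S))
  | 0, M, _, _, _, _ => ⟨[], rfl, by simp, by simp⟩
  | n + 1, M, _, _, _, h => by
    classical
    have h1 : 1 ≤ LocCoh.idealDepth (a.map (algebraMap A S)) M := le_trans (by simp) h
    rw [one_le_iff_associatedPrimes] at h1
    obtain ⟨r, hr, hreg⟩ : ∃ r ∈ a, IsSMulRegular M (algebraMap A S r) := by
      by_contra hex
      have hfin := (associatedPrimes.finite S M).image (Ideal.comap (algebraMap A S))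
      have hsub : (a : Set A) ⊆ ⋃ p ∈ (hfin.toFinset : Set (Ideal A)), (p : Set A) := fun r hr => by
        rw [hfin.coe_toFinset]
        have hz : algebraMap A S r ∈ ⋃ q ∈ associatedPrimes S M, (q : Set S) := by
          rw [biUnion_associatedPrimes_eq_zero_divisors S M]
          by_contra hno
          refine hex ⟨r, hr, fun x y hxy => ?_⟩
          by_contra hne
          exact hno ⟨x - y, sub_ne_zero.2 hne, by rw [smul_sub]; exact sub_eq_zero.2 hxy⟩
        obtain ⟨q, hq, hrq⟩ := Set.mem_iUnion₂.1 hz
        exact Set.mem_biUnion (Set.mem_image_of_mem _ hq) hrq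
      obtain ⟨p, hp, hle⟩ := (Ideal.subset_union_prime (f := fun p : Ideal A => p) ⊥ ⊥
        (fun i hi _ _ => by
          obtain ⟨q, hq, rfl⟩ := hfin.mem_toFinset.1 hi
          haveI := hq.isPrime
          exact Ideal.IsPrime.under A q)).1 hsub
      obtain ⟨q, hq, rfl⟩ := hfin.mem_toFinset.1 hp
      exact h1 q hq (Ideal.map_le_iff_le_comap.2 hle)
    have hq : (n : ℕ∞) ≤ LocCoh.idealDepth (a.map (algebraMap A S)) (QuotSMulTop (algebraMap A S r) M) := by
      rw [← ENat.add_le_add_iff_right (k := 1) (by simp), add_one_eq (Ideal.mem_map_of_mem _ hr) hreg]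
      exact_mod_cast h
    obtain ⟨rs, hl, hm, hw⟩ := exists_list a n (QuotSMulTop (algebraMap A S r) M) hq
    exact ⟨r :: rs, by simp [hl], by simp [hr]; exact hm,
      by rw [List.map_cons, isWeaklyRegular_cons_iff]; exact ⟨hreg, hw⟩⟩

/-- change of rings: no hypothesis on `A` -/
theorem idealDepth_map [IsNoetherianRing S] (a : Ideal A) (M : Type u) [AddCommGroup M] [Module S M]
    [Module A M] [IsScalarTower A S M] [Module.Finite S M] :
    LocCoh.idealDepth a M = LocCoh.idealDepth (a.map (algebraMap A S)) M := by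
  classical
  have hiff : a • (⊤ : Submodule A M) = ⊤ ↔ a.map (algebraMap A S) • (⊤ : Submodule S M) = ⊤ := by
    rw [← Submodule.restrictScalars_eq_top_iff A S M (p := a.map (algebraMap A S) • ⊤),
      Ideal.smul_restrictScalars, Submodule.restrictScalars_top]
  conv_lhs => unfold LocCoh.idealDepth
  by_cases h : a • (⊤ : Submodule A M) = ⊤
  · rw [if_pos h, eq_top_iff'.2 (hiff.1 h)]
  · rw [if_neg h]
    refine le_antisymm (iSup₂_le fun rs hrs => ?_) ?_
    · have := len_le (I := a.map (algebraMap A S)) (M := M) (rs := rs.map (algebraMap A S))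
        ⟨(isWeaklyRegular_map_algebraMap_iff S M rs).2 hrs.1,
          fun s hs => by obtain ⟨r, hr, rfl⟩ := List.mem_map.1 hs; exact Ideal.mem_map_of_mem _ (hrs.2 r hr)⟩
      simpa using this
    · refine ENat.forall_natCast_le_iff_le.1 fun n hn => ?_
      obtain ⟨rs, hl, hm, hw⟩ := exists_list a n M hn
      exact le_iSup₂_of_le rs ⟨(isWeaklyRegular_map_algebraMap_iff S M rs).1 hw, hm⟩ (by rw [hl])

end ChangeRings

end Groth.Agent.IdealDepth
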