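import Groth.Prelude.Def_CAlg
import Mathlib.Algebra.Category.ModuleCat.Ext.DimensionShifting
import Mathlib.Algebra.Category.ModuleCat.EnoughInjectives
import Mathlib.Algebra.Category.ModuleCat.ProjectiveDimension
import Mathlib.Algebra.Homology.DerivedCategory.Ext.Linear
import Mathlib.Algebra.Homology.DerivedCategory.Ext.ExactSequences
import Mathlib.RingTheory.Regular.RegularSequence
import Mathlib.RingTheory.Regular.Category
import Mathlib.RingTheory.Ideal.AssociatedPrime.Basic
import Mathlib.RingTheory.Ideal.AssociatedPrime.Finiteness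

/-!
# `LocCoh.idealDepth`: regular sequences, Ext, associated primes

Main API, for a finite module `M` over a Noetherian ring:
* `natCast_le_iff_exists`, `natCast_le_iff_ext`, `one_le_iff_exists`, `one_le_iff_associatedPrimes`;
* `eq_top_iff`, `add_one_eq`, `exists_concat`, `shortExact`, `congr`, `mono`.
-/

set_option autoImplicit false

universe u v w

open CategoryTheory Abelian RingTheory.Sequence
open scoped Pointwise

noncomputable section

namespace Groth.Agent.IdealDepth

variable {R : Type u} [CommRing R]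

/-- a weakly regular sequence inside `I` -/
def Reg (I : Ideal R) (M : Type v) [AddCommGroup M] [Module R M] (rs : List R) : Prop :=
  IsWeaklyRegular M rs ∧ ∀ r ∈ rs, r ∈ I

lemma reg_nil (I : Ideal R) (M : Type v) [AddCommGroup M] [Module R M] : Reg I M [] :=
  ⟨IsWeaklyRegular.nil R M, by simp⟩

lemma reg_cons_iff (I : Ideal R) (M : Type v) [AddCommGroup M] [Module R M] (x : R) (rs : List R) :
    Reg I M (x :: rs) ↔ x ∈ I ∧ IsSMulRegular M x ∧ Reg I (QuotSMulTop x M) rs := by
  simp only [Reg, isWeaklyRegular_cons_iff, List.mem_cons, forall_eq_or_imp]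
  tauto

theorem len_le {I : Ideal R} {M : Type v} [AddCommGroup M] [Module R M] {rs : List R} (h : Reg I M rs) :
    (rs.length : ℕ∞) ≤ LocCoh.idealDepth I M := by
  classical
  unfold LocCoh.idealDepth
  split_ifs
  · exact le_top
  · exact le_iSup₂_of_le rs h le_rfl

theorem congr {M : Type v} [AddCommGroup M] [Module R M] {N : Type w} [AddCommGroup N] [Module R N]
    (I : Ideal R) (e : M ≃ₗ[R] N) : LocCoh.idealDepth I M = LocCoh.idealDepth I N := by
  classical
  have h : I • (⊤ : Submodule R M) = ⊤ ↔ I • (⊤ : Submodule R N) = ⊤ := by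
    rw [← (Submodule.map_injective_of_injective (f := e.toLinearMap) e.injective).eq_iff,
      Submodule.map_smul'', Submodule.map_top, LinearMap.range_eq_top.2 e.surjective]
  unfold LocCoh.idealDepth
  by_cases h1 : I • (⊤ : Submodule R M) = ⊤
  · rw [if_pos h1, if_pos (h.1 h1)]
  · rw [if_neg h1, if_neg fun h2 => h1 (h.2 h2)]
    simp only [LinearEquiv.isWeaklyRegular_congr e]

section Ext

/-- the Ext characterisation of `n ≤ depth_I M` -/
def E (I : Ideal R) (M : Type u) [AddCommGroup M] [Module R M] (n : ℕ) : Prop :=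
  ∀ i < n, Subsingleton (Ext (ModuleCat.of R (R ⧸ I)) (ModuleCat.of R M) i)

variable {I : Ideal R} {M : Type u} [AddCommGroup M] [Module R M]

lemma E.mono {n m : ℕ} (h : E I M n) (hm : m ≤ n) : E I M m := fun i hi => h i (by omega)

lemma smul_id_eq_zero {x : R} (hx : x ∈ I) : x • 𝟙 (ModuleCat.of R (R ⧸ I)) = 0 := by
  refine ModuleCat.hom_ext (LinearMap.ext fun z => ?_)
  obtain ⟨w, rfl⟩ := Ideal.Quotient.mk_surjective z
  change x • (Ideal.Quotient.mk I w) = 0
  rw [Algebra.smul_def, Ideal.Quotient.algebraMap_eq, ← map_mul, Ideal.Quotient.eq_zero_iff_mem]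
  exact Ideal.mul_mem_right _ _ hx

lemma comp_smul_eq_zero {x : R} (hx : x ∈ I) {i : ℕ}
    (α : Ext (ModuleCat.of R (R ⧸ I)) (ModuleCat.of R M) i) :
    α.comp (Ext.mk₀ (x • 𝟙 (ModuleCat.of R M))) (add_zero i) = 0 := by
  have h1 : α.comp (Ext.mk₀ (x • 𝟙 (ModuleCat.of R M))) (add_zero i) = x • α := by
    rw [Ext.mk₀_smul, Ext.comp_smul, Ext.comp_mk₀_id]
  have h2 : (Ext.mk₀ (x • 𝟙 (ModuleCat.of R (R ⧸ I)))).comp α (zero_add i) = x • α := by
    rw [Ext.mk₀_smul, Ext.smul_comp, Ext.mk₀_id_comp]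
  rw [h1, ← h2, smul_id_eq_zero hx, Ext.mk₀_zero, Ext.zero_comp]

lemma E_succ_iff {x : R} (hx : x ∈ I) (hreg : IsSMulRegular M x) (n : ℕ) :
    E I M (n + 1) ↔ E I (QuotSMulTop x M) n := by
  have hS : ((ModuleCat.of R M).smulShortComplex x).ShortExact := hreg.smulShortComplex_shortExact
  constructor
  · intro h i hi
    refine subsingleton_of_forall_eq 0 fun β => ?_
    obtain ⟨α, hα⟩ := Ext.covariant_sequence_exact₃ (ModuleCat.of R (R ⧸ I)) hS β rfl
      (@Subsingleton.elim _ (h (i + 1) (by omega)) _ _)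
    rw [← hα, show α = 0 from @Subsingleton.elim _ (h i (by omega)) α 0]
    apply Ext.zero_comp
  · intro h i hi
    refine subsingleton_of_forall_eq 0 fun α => ?_
    cases i with
    | zero =>
      obtain ⟨f, rfl⟩ := (Ext.mk₀_bijective _ _).2 α
      have hf : f = 0 := by
        refine ModuleCat.hom_ext (LinearMap.ext fun z => hreg ?_)
        change x • f.hom z = x • (0 : M)
        rw [smul_zero, ← map_smul]
        have := LinearMap.congr_fun (congrArg ModuleCat.Hom.hom (smul_id_eq_zero hx)) z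
        change x • z = 0 at this
        rw [this, map_zero]
      rw [hf, Ext.mk₀_zero]
    | succ i =>
      obtain ⟨γ, hγ⟩ := Ext.covariant_sequence_exact₁ (ModuleCat.of R (R ⧸ I)) hS α
        (comp_smul_eq_zero hx α) rfl
      rw [← hγ, show γ = 0 from @Subsingleton.elim _ (h i (by omega)) γ 0]
      apply Ext.zero_comp

lemma eq_zero_of_E_one (h : E I M 1) (z : M) (hz : ∀ r ∈ I, r • z = 0) : z = 0 := by
  let f : ModuleCat.of R (R ⧸ I) ⟶ ModuleCat.of R M := ModuleCat.ofHom
    (Submodule.liftQ I (LinearMap.toSpanSingleton R M z) fun r hr => hz r hr)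
  have hf : Ext.mk₀ f = Ext.mk₀ (0 : ModuleCat.of R (R ⧸ I) ⟶ ModuleCat.of R M) :=
    @Subsingleton.elim _ (h 0 (by omega)) _ _
  have := LinearMap.congr_fun (congrArg ModuleCat.Hom.hom ((Ext.mk₀_bijective _ _).1 hf)) (Submodule.Quotient.mk 1)
  change (1 : R) • z = 0 at this
  simpa using this

lemma E_of_reg : ∀ (rs : List R) (M : Type u) [AddCommGroup M] [Module R M], Reg I M rs → E I M rs.length
  | [], _, _, _, _ => fun i hi => absurd hi (Nat.not_lt_zero i)
  | x :: rs, M, _, _, h => by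
    rw [reg_cons_iff] at h
    exact (E_succ_iff h.1 h.2.1 rs.length).2 (E_of_reg rs _ h.2.2)

end Ext

section Noetherian

variable [IsNoetherianRing R]

lemma exists_regular_of_associatedPrimes {I : Ideal R} {M : Type v} [AddCommGroup M] [Module R M]
    [Module.Finite R M] (h : ∀ p ∈ associatedPrimes R M, ¬ I ≤ p) : ∃ x ∈ I, IsSMulRegular M x := by
  classical
  by_contra hex
  have hfin := associatedPrimes.finite R M
  have hsub : (I : Set R) ⊆ ⋃ p ∈ (hfin.toFinset : Set (Ideal R)), (p : Set R) := fun x hx => by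
    rw [hfin.coe_toFinset, biUnion_associatedPrimes_eq_zero_divisors R M]
    by_contra hno
    refine hex ⟨x, hx, fun a b hab => ?_⟩
    by_contra hne
    exact hno ⟨a - b, sub_ne_zero.2 hne, by rw [smul_sub]; exact sub_eq_zero.2 hab⟩
  obtain ⟨p, hp, hle⟩ := (Ideal.subset_union_prime (f := fun p : Ideal R => p) ⊥ ⊥
    (fun i hi _ _ => (hfin.mem_toFinset.1 hi).isPrime)).1 hsub
  exact h p (hfin.mem_toFinset.1 hp) hle

lemma not_le_of_isSMulRegular {I : Ideal R} {M : Type v} [AddCommGroup M] [Module R M] {x : R} (hx : x ∈ I)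
    (hreg : IsSMulRegular M x) {p : Ideal R} (hp : p ∈ associatedPrimes R M) : ¬ I ≤ p := by
  intro hle
  obtain ⟨hpr, z, hz⟩ := isAssociatedPrime_iff.1 hp
  have h1 : x • z = 0 := by
    have := hle hx
    rwa [hz, Submodule.mem_colon_singleton, Submodule.mem_bot] at this
  have hz0 : z = 0 := hreg (show x • z = x • (0 : M) by rw [h1, smul_zero])
  exact hpr.ne_top ((Ideal.eq_top_iff_one _).2 (by
    rw [hz, Submodule.mem_colon_singleton, Submodule.mem_bot, hz0, smul_zero]))

variable {I : Ideal R} {M : Type u} [AddCommGroup M] [Module R M] [Module.Finite R M]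

lemma exists_regular_of_E_one (h : E I M 1) : ∃ x ∈ I, IsSMulRegular M x := by
  refine exists_regular_of_associatedPrimes fun p hp hle => ?_
  obtain ⟨hpr, z, hz⟩ := isAssociatedPrime_iff.1 hp
  have hz0 : z = 0 := eq_zero_of_E_one h z fun r hr => by
    have := hle hr
    rwa [hz, Submodule.mem_colon_singleton, Submodule.mem_bot] at this
  exact hpr.ne_top ((Ideal.eq_top_iff_one _).2 (by
    rw [hz, Submodule.mem_colon_singleton, Submodule.mem_bot, hz0, smul_zero]))

lemma exists_reg_of_E : ∀ (n : ℕ) (M : Type u) [AddCommGroup M] [Module R M] [Module.Finite R M],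
    E I M n → ∃ rs, Reg I M rs ∧ rs.length = n
  | 0, M, _, _, _, _ => ⟨[], reg_nil I M, rfl⟩
  | n + 1, M, _, _, _, h => by
    obtain ⟨x, hx, hreg⟩ := exists_regular_of_E_one (h.mono (by omega))
    obtain ⟨rs, hrs, hlen⟩ := exists_reg_of_E n (QuotSMulTop x M) ((E_succ_iff hx hreg n).1 h)
    exact ⟨x :: rs, (reg_cons_iff I M x rs).2 ⟨hx, hreg, hrs⟩, by simp [hlen]⟩

omit [IsNoetherianRing R] in
lemma exists_smul_eq_self {M : Type v} [AddCommGroup M] [Module R M] [Module.Finite R M]
    (h : I • (⊤ : Submodule R M) = ⊤) : ∃ a ∈ I, ∀ m : M, a • m = m := by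
  obtain ⟨a, ha, h1⟩ := Submodule.exists_mem_and_smul_eq_self_of_fg_of_le_smul I ⊤ Module.Finite.fg_top h.ge
  exact ⟨a, ha, fun m => h1 m trivial⟩

omit [IsNoetherianRing R] in
lemma reg_replicate {a : R} (ha : a ∈ I) : ∀ (n : ℕ) (M : Type v) [AddCommGroup M] [Module R M],
    (∀ m : M, a • m = m) → Reg I M (List.replicate n a)
  | 0, M, _, _, _ => reg_nil I M
  | n + 1, M, _, _, h => by
    rw [List.replicate_succ, reg_cons_iff]
    refine ⟨ha, fun u v huv => by simpa [h] using huv, reg_replicate ha n _ fun q => ?_⟩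
    obtain ⟨m, rfl⟩ := Submodule.Quotient.mk_surjective _ q
    rw [← Submodule.Quotient.mk_smul, h]

theorem natCast_le_iff_ext {n : ℕ} : (n : ℕ∞) ≤ LocCoh.idealDepth I M ↔ E I M n := by
  classical
  constructor
  · intro h
    rcases Nat.eq_zero_or_pos n with rfl | hn
    · exact fun i hi => absurd hi (Nat.not_lt_zero i)
    unfold LocCoh.idealDepth at h
    split_ifs at h with htop
    · obtain ⟨a, ha, h1⟩ := exists_smul_eq_self htop
      exact (E_of_reg _ M (reg_replicate ha n M h1)).mono (by simp)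
    · by_contra hE
      have : (n : ℕ∞) ≤ ((n - 1 : ℕ) : ℕ∞) := h.trans (iSup₂_le fun rs hrs => by
        refine Nat.cast_le.2 ?_
        by_contra hlt
        exact hE ((E_of_reg rs M hrs).mono (by omega)))
      have := ENat.coe_le_coe.1 this
      omega
  · intro h
    obtain ⟨rs, hrs, rfl⟩ := exists_reg_of_E n M h
    exact len_le hrs

theorem natCast_le_iff_exists {n : ℕ} :
    (n : ℕ∞) ≤ LocCoh.idealDepth I M ↔ ∃ rs, Reg I M rs ∧ rs.length = n :=
  ⟨fun h => exists_reg_of_E n M (natCast_le_iff_ext.1 h), fun ⟨_, hrs, hl⟩ => hl ▸ len_le hrs⟩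

theorem one_le_iff_exists : 1 ≤ LocCoh.idealDepth I M ↔ ∃ x ∈ I, IsSMulRegular M x := by
  rw [show (1 : ℕ∞) = ((1 : ℕ) : ℕ∞) from rfl, natCast_le_iff_exists]
  constructor
  · rintro ⟨rs, hrs, hl⟩
    obtain ⟨x, rfl⟩ := List.length_eq_one_iff.1 hl
    exact ⟨x, ((reg_cons_iff I M x []).1 hrs).1, ((reg_cons_iff I M x []).1 hrs).2.1⟩
  · rintro ⟨x, hx, hreg⟩
    exact ⟨[x], (reg_cons_iff I M x []).2 ⟨hx, hreg, reg_nil _ _⟩, rfl⟩

theorem one_le_iff_associatedPrimes :
    1 ≤ LocCoh.idealDepth I M ↔ ∀ p ∈ associatedPrimes R M, ¬ I ≤ p := by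
  rw [one_le_iff_exists]
  exact ⟨fun ⟨x, hx, hreg⟩ p hp => not_le_of_isSMulRegular hx hreg hp, exists_regular_of_associatedPrimes⟩

theorem eq_zero_iff : LocCoh.idealDepth I M = 0 ↔ ∃ p ∈ associatedPrimes R M, I ≤ p := by
  rw [← not_iff_not, ← ne_eq, ← Order.one_le_iff_pos.trans pos_iff_ne_zero, one_le_iff_associatedPrimes]
  push Not
  rfl

theorem add_one_eq {x : R} (hx : x ∈ I) (hreg : IsSMulRegular M x) :
    LocCoh.idealDepth I (QuotSMulTop x M) + 1 = LocCoh.idealDepth I M := by
  refine ENat.eq_of_forall_natCast_le_iff fun n => ?_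
  rcases n with _ | n
  · simp
  rw [natCast_le_iff_ext, E_succ_iff hx hreg, ← natCast_le_iff_ext]
  push_cast
  exact ENat.add_le_add_iff_right (by simp)

theorem mono {J : Ideal R} (h : I ≤ J) : LocCoh.idealDepth I M ≤ LocCoh.idealDepth J M := by
  refine ENat.forall_natCast_le_iff_le.1 fun n hn => ?_
  obtain ⟨rs, hrs, rfl⟩ := natCast_le_iff_exists.1 hn
  exact len_le ⟨hrs.1, fun r hr => h (hrs.2 r hr)⟩

theorem exists_concat : ∀ (rs : List R) (M : Type u) [AddCommGroup M] [Module R M] [Module.Finite R M],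
    Reg I M rs → E I M (rs.length + 1) → ∃ r ∈ I, Reg I M (rs ++ [r])
  | [], M, _, _, _, _, h => by
    obtain ⟨x, hx, hreg⟩ := exists_regular_of_E_one h
    exact ⟨x, hx, (reg_cons_iff I M x []).2 ⟨hx, hreg, reg_nil _ _⟩⟩
  | y :: rs, M, _, _, _, hrs, h => by
    obtain ⟨hy, hreg, hrest⟩ := (reg_cons_iff I M y rs).1 hrs
    obtain ⟨r, hr, hr'⟩ := exists_concat rs (QuotSMulTop y M) hrest ((E_succ_iff hy hreg _).1 h)
    exact ⟨r, hr, (reg_cons_iff I M y _).2 ⟨hy, hreg, hr'⟩⟩

theorem length_eq_of_maximal {rs : List R} (hrs : Reg I M rs) (hmax : ∀ r ∈ I, ¬ IsWeaklyRegular M (rs ++ [r])) :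
    (rs.length : ℕ∞) = LocCoh.idealDepth I M := by
  refine le_antisymm (len_le hrs) (not_lt.1 fun hlt => ?_)
  have : ((rs.length + 1 : ℕ) : ℕ∞) ≤ LocCoh.idealDepth I M := by
    push_cast
    exact Order.add_one_le_of_lt hlt
  obtain ⟨r, hr, hr'⟩ := exists_concat rs M hrs (natCast_le_iff_ext.1 this)
  exact hmax r hr hr'.1

theorem ne_top (hIM : I • (⊤ : Submodule R M) ≠ ⊤) : LocCoh.idealDepth I M ≠ ⊤ := by
  intro htop
  haveI : IsNoetherian R M := isNoetherian_of_isNoetherianRing_of_finite R M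
  suffices key : ∀ (K : Submodule R M) (M' : Type u) [AddCommGroup M'] [Module R M'] [Module.Finite R M']
      (g : M →ₗ[R] M'), Function.Surjective g → LinearMap.ker g = K → I • (⊤ : Submodule R M') ≠ ⊤ →
      ∃ n, ¬ E I M' n by
    obtain ⟨n, hn⟩ := key _ M LinearMap.id Function.surjective_id rfl hIM
    exact hn (natCast_le_iff_ext.1 (htop ▸ le_top))
  intro K
  induction K using IsNoetherian.induction with
  | _ K ih =>
    intro M' _ _ _ g hg hK hne
    by_contra! hE
    obtain ⟨x, hx, hreg⟩ := exists_regular_of_E_one (hE 1)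
    let q : M' →ₗ[R] QuotSMulTop x M' := Submodule.mkQ _
    have hq : Function.Surjective q := Submodule.mkQ_surjective _
    have hne' : I • (⊤ : Submodule R (QuotSMulTop x M')) ≠ ⊤ := fun h => hne (by
      have hxle : x • (⊤ : Submodule R M') ≤ I • ⊤ := by
        rw [← Submodule.ideal_span_singleton_smul]
        exact Submodule.smul_mono_left ((Ideal.span_singleton_le_iff_mem I).2 hx)
      have := congrArg (Submodule.comap q) h
      rw [Submodule.comap_top, show (⊤ : Submodule R (QuotSMulTop x M')) = Submodule.map q ⊤ by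
        rw [Submodule.map_top, LinearMap.range_eq_top.2 hq], ← Submodule.map_smul'',
        Submodule.comap_map_eq, Submodule.ker_mkQ] at this
      rwa [sup_eq_left.2 hxle] at this)
    have hlt : K < LinearMap.ker (q ∘ₗ g) := by
      subst hK
      refine lt_of_le_of_ne (fun m hm => by simp [LinearMap.mem_ker.1 hm]) fun heq => hne ?_
      rw [eq_top_iff]
      intro m' _
      obtain ⟨m, rfl⟩ := hg m'
      have h1 : g (x • m) = 0 := by
        rw [← LinearMap.mem_ker, heq, LinearMap.mem_ker, LinearMap.comp_apply, map_smul g]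
        exact (Submodule.Quotient.mk_eq_zero _).2 (Submodule.smul_mem_pointwise_smul _ _ _ trivial)
      rw [map_smul] at h1
      have : g m = 0 := hreg (show x • g m = x • (0 : M') by rw [h1, smul_zero])
      rw [this]
      exact zero_mem _
    obtain ⟨n, hn⟩ := ih _ hlt (QuotSMulTop x M') (q ∘ₗ g) (hq.comp hg) rfl hne'
    exact hn ((E_succ_iff hx hreg n).1 (hE (n + 1)))

theorem eq_top_iff' : LocCoh.idealDepth I M = ⊤ ↔ I • (⊤ : Submodule R M) = ⊤ := by
  refine ⟨fun h => by_contra fun h' => ne_top h' h, fun h => ?_⟩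
  classical
  unfold LocCoh.idealDepth
  rw [if_pos h]

/-- the three depth inequalities of a short exact sequence -/
theorem shortExact {N' N N'' : Type u} [AddCommGroup N'] [Module R N'] [Module.Finite R N']
    [AddCommGroup N] [Module R N] [Module.Finite R N] [AddCommGroup N''] [Module R N''] [Module.Finite R N'']
    (f : N' →ₗ[R] N) (g : N →ₗ[R] N'') (hf : Function.Injective f) (hg : Function.Surjective g)
    (hfg : Function.Exact f g) :
    min (LocCoh.idealDepth I N') (LocCoh.idealDepth I N'') ≤ LocCoh.idealDepth I N ∧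
      min (LocCoh.idealDepth I N) (LocCoh.idealDepth I N' - 1) ≤ LocCoh.idealDepth I N'' ∧
      min (LocCoh.idealDepth I N) (LocCoh.idealDepth I N'' + 1) ≤ LocCoh.idealDepth I N' := by
  let S : ShortComplex (ModuleCat.{u} R) := ShortComplex.mk (ModuleCat.ofHom f) (ModuleCat.ofHom g)
    (ModuleCat.hom_ext (LinearMap.ext fun z => hfg.apply_apply_eq_zero z))
  have hS : S.ShortExact :=
    { exact := (ShortComplex.ShortExact.moduleCat_exact_iff_function_exact S).2 hfg
      mono_f := (ModuleCat.mono_iff_injective _).2 hf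
      epi_g := (ModuleCat.epi_iff_surjective _).2 hg }
  refine ⟨?_, ?_, ?_⟩ <;> refine ENat.forall_natCast_le_iff_le.1 fun n hn => natCast_le_iff_ext.2 ?_
  · rw [le_min_iff, natCast_le_iff_ext, natCast_le_iff_ext] at hn
    intro i hi
    refine subsingleton_of_forall_eq 0 fun α => ?_
    obtain ⟨β, hβ⟩ := Ext.covariant_sequence_exact₂ (ModuleCat.of R (R ⧸ I)) hS α
      (@Subsingleton.elim _ (hn.2 i hi) _ _)
    rw [← hβ, show β = 0 from @Subsingleton.elim _ (hn.1 i hi) β 0]
    apply Ext.zero_comp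
  · rw [le_min_iff, natCast_le_iff_ext] at hn
    intro i hi
    have hn' : ((i + 1 + 1 : ℕ) : ℕ∞) ≤ LocCoh.idealDepth I N' := by
      have h1 : ((i + 1 : ℕ) : ℕ∞) ≤ LocCoh.idealDepth I N' - 1 := (Nat.cast_le.2 hi).trans hn.2
      generalize LocCoh.idealDepth I N' = d at h1
      cases d with
      | top => exact le_top
      | coe d =>
        rw [show ((d : ℕ∞) - 1) = ((d - 1 : ℕ) : ℕ∞) by rw [ENat.coe_sub]; rfl, Nat.cast_le] at h1
        exact Nat.cast_le.2 (by omega)
    refine subsingleton_of_forall_eq 0 fun α => ?_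
    obtain ⟨β, hβ⟩ := Ext.covariant_sequence_exact₃ (ModuleCat.of R (R ⧸ I)) hS α rfl
      (@Subsingleton.elim _ (natCast_le_iff_ext.1 hn' (i + 1) (by omega)) _ _)
    rw [← hβ, show β = 0 from @Subsingleton.elim _ (hn.1 i hi) β 0]
    apply Ext.zero_comp
  · rw [le_min_iff, natCast_le_iff_ext] at hn
    intro i hi
    refine subsingleton_of_forall_eq 0 fun α => ?_
    cases i with
    | zero =>
      obtain ⟨φ, rfl⟩ := (Ext.mk₀_bijective _ _).2 α
      have h0 : (φ ≫ S.f : ModuleCat.of R (R ⧸ I) ⟶ S.X₂) = 0 :=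
        (Ext.mk₀_bijective _ _).1 (@Subsingleton.elim _ (hn.1 0 hi) _ _)
      haveI := hS.mono_f
      rw [show φ = 0 from (cancel_mono S.f).1 (h0.trans Limits.zero_comp.symm), Ext.mk₀_zero]
    | succ i =>
      have hn'' : ((i + 1 : ℕ) : ℕ∞) ≤ LocCoh.idealDepth I N'' := by
        have h1 : ((i + 2 : ℕ) : ℕ∞) ≤ LocCoh.idealDepth I N'' + 1 := (Nat.cast_le.2 hi).trans hn.2
        generalize LocCoh.idealDepth I N'' = d at h1
        cases d with
        | top => exact le_top
        | coe d =>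
          rw [show (d : ℕ∞) + 1 = ((d + 1 : ℕ) : ℕ∞) by rfl, Nat.cast_le] at h1
          exact Nat.cast_le.2 (by omega)
      obtain ⟨γ, hγ⟩ := Ext.covariant_sequence_exact₁ (ModuleCat.of R (R ⧸ I)) hS α
        (@Subsingleton.elim _ (hn.1 (i + 1) hi) _ _) rfl
      rw [← hγ, show γ = 0 from @Subsingleton.elim _ (natCast_le_iff_ext.1 hn'' i (by omega)) γ 0]
      apply Ext.zero_comp

end Noetherian

end Groth.Agent.IdealDepth
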