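import Groth.Agent.IdealDepth.Basic
import Mathlib.RingTheory.Flat.Basic
import Mathlib.LinearAlgebra.Dual.Lemmas
import Mathlib.Algebra.Module.LocalizedModule.Exact
import Mathlib.RingTheory.LocalProperties.Projective
import Mathlib.RingTheory.Localization.Finiteness

/-!
# depth of kernels; reflexive modules as kernels of maps of free modules
-/

set_option autoImplicit false

universe u

open RingTheory.Sequence
open scoped TensorProduct

noncomputable section

namespace Groth.Agent.IdealDepth

variable {A : Type u} [CommRing A] [IsNoetherianRing A]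

theorem le_idealDepth_flat (I : Ideal A) (P : Type u) [AddCommGroup P] [Module A P] [Module.Finite A P]
    [Module.Flat A P] : LocCoh.idealDepth I A ≤ LocCoh.idealDepth I P := by
  refine ENat.forall_natCast_le_iff_le.1 fun n hn => ?_
  obtain ⟨rs, hrs, rfl⟩ := natCast_le_iff_exists.1 hn
  exact len_le ⟨((TensorProduct.lid A P).isWeaklyRegular_congr rs).1 (hrs.1.isWeaklyRegular_rTensor (M₂ := P)), hrs.2⟩

variable {E0 E1 : Type u} [AddCommGroup E0] [Module A E0] [Module.Finite A E0] [AddCommGroup E1] [Module A E1]
    [Module.Finite A E1]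

theorem one_le_of_injective {I : Ideal A} (i : E0 →ₗ[A] E1) (hi : Function.Injective i)
    (h : 1 ≤ LocCoh.idealDepth I E1) : 1 ≤ LocCoh.idealDepth I E0 := by
  obtain ⟨x, hx, hreg⟩ := one_le_iff_exists.1 h
  exact one_le_iff_exists.2 ⟨x, hx, fun a b hab => hi (hreg (by simpa [map_smul] using congrArg i hab))⟩

theorem two_le_ker (I : Ideal A) (u : E0 →ₗ[A] E1) (h0 : 2 ≤ LocCoh.idealDepth I E0)
    (h1 : 1 ≤ LocCoh.idealDepth I E1) : 2 ≤ LocCoh.idealDepth I (LinearMap.ker u) := by
  haveI : Module.Finite A (LinearMap.ker u) := Module.Finite.iff_fg.2 (IsNoetherian.noetherian _)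
  haveI : Module.Finite A (LinearMap.range u) := Module.Finite.iff_fg.2 (IsNoetherian.noetherian _)
  have hQ : 1 ≤ LocCoh.idealDepth I (LinearMap.range u) :=
    one_le_of_injective (LinearMap.range u).subtype Subtype.val_injective h1
  refine le_trans (le_min h0 ?_) (shortExact (LinearMap.ker u).subtype u.rangeRestrict Subtype.val_injective
    u.surjective_rangeRestrict ?_).2.2
  · rw [show (2 : ℕ∞) = 1 + 1 from rfl]
    gcongr
  · rw [LinearMap.exact_iff, LinearMap.ker_rangeRestrict, Submodule.range_subtype]

/-- a kernel `0 → G → P₀ → P₁` of finite projectives -/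
theorem le_of_exact (I : Ideal A) {k : ℕ} (hk : k ≤ 2) {G P0 P1 : Type u} [AddCommGroup G] [Module A G]
    [Module.Finite A G] [AddCommGroup P0] [Module A P0] [Module.Finite A P0] [Module.Flat A P0] [AddCommGroup P1]
    [Module A P1] [Module.Finite A P1] [Module.Flat A P1] (i : G →ₗ[A] P0) (u : P0 →ₗ[A] P1)
    (hi : Function.Injective i) (hex : Function.Exact i u) (h : (k : ℕ∞) ≤ LocCoh.idealDepth I A) :
    (k : ℕ∞) ≤ LocCoh.idealDepth I G := by
  rw [congr I ((LinearEquiv.ofInjective i hi).trans (LinearEquiv.ofEq _ _ (LinearMap.exact_iff.1 hex).symm))]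
  interval_cases k
  · simp
  · exact one_le_of_injective (LinearMap.ker u).subtype Subtype.val_injective (h.trans (le_idealDepth_flat I P0))
  · exact two_le_ker I u (h.trans (le_idealDepth_flat I P0))
      (le_trans (by norm_num) (h.trans (le_idealDepth_flat I P1)))

/-- a finite reflexive module is a kernel of a map of finite free modules -/
theorem exists_exact_of_reflexive (G : Type u) [AddCommGroup G] [Module A G] [Module.Finite A G]
    [Module.IsReflexive A G] : ∃ (n m : ℕ) (i : G →ₗ[A] Module.Dual A (Fin n → A))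
      (u : Module.Dual A (Fin n → A) →ₗ[A] Module.Dual A (Fin m → A)),
      Function.Injective i ∧ Function.Exact i u := by
  haveI : Module.Finite A (Module.Dual A G) := by
    obtain ⟨k, q, hq⟩ := Module.Finite.exists_fin' A G
    exact Module.Finite.of_injective q.dualMap (LinearMap.dualMap_injective_of_surjective hq)
  obtain ⟨n, f, hf⟩ := Module.Finite.exists_fin' A (Module.Dual A G)
  haveI : Module.Finite A (LinearMap.ker f) := Module.Finite.iff_fg.2 (IsNoetherian.noetherian _)
  obtain ⟨m, g, hg⟩ := Module.Finite.exists_fin' A (LinearMap.ker f)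
  refine ⟨n, m, f.dualMap ∘ₗ (Module.evalEquiv A G).toLinearMap, ((LinearMap.ker f).subtype ∘ₗ g).dualMap,
    (LinearMap.dualMap_injective_of_surjective hf).comp (Module.evalEquiv A G).injective, fun φ => ?_⟩
  constructor
  · intro hφ
    have hle : LinearMap.ker f ≤ LinearMap.ker φ := fun z hz => by
      obtain ⟨w, hw⟩ := hg ⟨z, hz⟩
      have := LinearMap.congr_fun hφ w
      simpa [hw] using this
    refine ⟨(Module.evalEquiv A G).symm ((Submodule.liftQ _ φ hle) ∘ₗ
      (f.quotKerEquivOfSurjective hf).symm.toLinearMap), LinearMap.ext fun z => ?_⟩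
    simp only [LinearMap.comp_apply, LinearEquiv.coe_coe, LinearEquiv.apply_symm_apply, LinearMap.dualMap_apply]
    rw [show (f.quotKerEquivOfSurjective hf).symm (f z) = Submodule.Quotient.mk z from
      (LinearEquiv.symm_apply_eq _).2 rfl, Submodule.liftQ_apply]
  · rintro ⟨x, rfl⟩
    refine LinearMap.ext fun w => ?_
    simp [LinearMap.mem_ker.1 (g w).2]

theorem le_of_reflexive (I : Ideal A) {k : ℕ} (hk : k ≤ 2) (G : Type u) [AddCommGroup G] [Module A G]
    [Module.Finite A G] [Module.IsReflexive A G] (h : (k : ℕ∞) ≤ LocCoh.idealDepth I A) :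
    (k : ℕ∞) ≤ LocCoh.idealDepth I G := by
  obtain ⟨n, m, i, u, hi, hex⟩ := exists_exact_of_reflexive (A := A) G
  exact le_of_exact I hk i u hi hex h

theorem le_depth_localization_of_reflexive {k : ℕ} (hk : k ≤ 2) (G : Type u) [AddCommGroup G] [Module A G]
    [Module.Finite A G] [Module.IsReflexive A G] (p : Ideal A) [p.IsPrime]
    (h : (k : ℕ∞) ≤ LocCoh.depth (Localization.AtPrime p) (Localization.AtPrime p)) :
    (k : ℕ∞) ≤ LocCoh.depth (Localization.AtPrime p) (LocalizedModule p.primeCompl G) := by
  obtain ⟨n, m, i, u, hi, hex⟩ := exists_exact_of_reflexive (A := A) G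
  haveI : Module.Free (Localization.AtPrime p) (LocalizedModule p.primeCompl (Module.Dual A (Fin n → A))) :=
    Module.free_of_isLocalizedModule p.primeCompl (LocalizedModule.mkLinearMap p.primeCompl _)
  haveI : Module.Free (Localization.AtPrime p) (LocalizedModule p.primeCompl (Module.Dual A (Fin m → A))) :=
    Module.free_of_isLocalizedModule p.primeCompl (LocalizedModule.mkLinearMap p.primeCompl _)
  let i' : LocalizedModule p.primeCompl G →ₗ[Localization.AtPrime p] LocalizedModule p.primeCompl (Module.Dual A (Fin n → A)) :=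
    LocalizedModule.map p.primeCompl i
  let u' : LocalizedModule p.primeCompl (Module.Dual A (Fin n → A)) →ₗ[Localization.AtPrime p] LocalizedModule p.primeCompl (Module.Dual A (Fin m → A)) :=
    LocalizedModule.map p.primeCompl u
  have hi' : Function.Injective i' := LocalizedModule.map_injective p.primeCompl i hi
  have hex' : Function.Exact i' u' := LocalizedModule.map_exact p.primeCompl i u hex
  exact le_of_exact (A := Localization.AtPrime p) (G := LocalizedModule p.primeCompl G) (P0 := LocalizedModule p.primeCompl (Module.Dual A (Fin n → A))) (P1 := LocalizedModule p.primeCompl (Module.Dual A (Fin m → A))) (IsLocalRing.maximalIdeal (Localization.AtPrime p)) hk i' u' hi' hex' h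

end Groth.Agent.IdealDepth
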