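import Groth.Agent.IdealDepth.CM
import Mathlib.RingTheory.Ideal.Height
import Mathlib.RingTheory.RegularLocalRing.Defs
import Mathlib.RingTheory.Ideal.MinimalPrime.Localization
import Mathlib.RingTheory.KrullDimension.Zero
import Mathlib.RingTheory.LocalProperties.Reduced

/-!
# Serre conditions for a ring over itself; reduced = R₀ + S₁
-/

set_option autoImplicit false

universe u

open IsLocalRing

noncomputable section

namespace Groth.Agent.IdealDepth.Serre

variable (R : Type u) [CommRing R] (p : Ideal R) [p.IsPrime]

def selfEquiv : LocalizedModule p.primeCompl R ≃ₗ[Localization.AtPrime p] Localization.AtPrime p :=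
  LinearEquiv.extendScalarsOfIsLocalization p.primeCompl _
    (IsLocalizedModule.iso p.primeCompl (Algebra.linearMap R (Localization.AtPrime p)))

lemma depth_self :
    LocCoh.depth (Localization.AtPrime p) (LocalizedModule p.primeCompl R) =
      LocCoh.depth (Localization.AtPrime p) (Localization.AtPrime p) :=
  congr _ (selfEquiv R p)

lemma supportDim_self :
    Module.supportDim (Localization.AtPrime p) (LocalizedModule p.primeCompl R) =
      ((p.height : ℕ∞) : WithBot ℕ∞) := by
  rw [Module.supportDim_eq_of_equiv (selfEquiv R p), Module.supportDim_self_eq_ringKrullDim,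
    IsLocalization.AtPrime.ringKrullDim_eq_height p]

lemma hasSk_self_iff (k : ℕ) : LocCoh.HasSk k R R ↔ ∀ (p : Ideal R) [p.IsPrime],
    min (k : ℕ∞) p.height ≤ LocCoh.depth (Localization.AtPrime p) (Localization.AtPrime p) := by
  refine forall₂_congr fun p _ => ?_
  rw [depth_self, supportDim_self, show ((k : ℕ) : WithBot ℕ∞) = ((k : ℕ∞) : WithBot ℕ∞) from rfl,
    ← WithBot.coe_min, WithBot.coe_le_coe]

variable {R}

lemma regular_of_isField {B : Type u} [CommRing B] [IsLocalRing B] (h : IsField B) : IsRegularLocalRing B := by
  haveI : IsDomain B := h.isDomain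
  haveI : IsPrincipalIdealRing B := ⟨fun I => by
    letI := h.toField
    rcases Ideal.eq_bot_or_top I with rfl | rfl <;> infer_instance⟩
  infer_instance

lemma isField_of_height_zero [IsReduced R] (h : p.height = 0) : IsField (Localization.AtPrime p) := by
  haveI : Ring.KrullDimLE 0 (Localization.AtPrime p) := by
    rw [Ring.KrullDimLE, Order.krullDimLE_iff]
    change ringKrullDim (Localization.AtPrime p) ≤ 0
    rw [IsLocalization.AtPrime.ringKrullDim_eq_height p, h]
    rfl
  exact Ring.KrullDimLE.isField_of_isReduced

theorem reduced_iff (R : Type u) [CommRing R] [IsNoetherianRing R] :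
    IsReduced R ↔ (LocCoh.HasRk 0 R ∧ LocCoh.HasSk 1 R R) := by
  rw [hasSk_self_iff]
  constructor
  · intro hR
    refine ⟨fun p hp h => regular_of_isField (isField_of_height_zero p (nonpos_iff_eq_zero.1 h)),
      fun p hp => ?_⟩
    by_cases h : p.height = 0
    · simp [h]
    refine le_trans (min_le_left _ _) ?_
    rw [Nat.cast_one, LocCoh.depth, one_le_iff_associatedPrimes]
    intro q hq hle
    obtain ⟨hqp, z, hz⟩ := isAssociatedPrime_iff.1 hq
    have hmz : ∀ a ∈ maximalIdeal (Localization.AtPrime p), a * z = 0 := fun a ha => by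
      have := hle ha
      rwa [hz, Submodule.mem_colon_singleton, Submodule.mem_bot, smul_eq_mul] at this
    by_cases hzm : z ∈ maximalIdeal (Localization.AtPrime p)
    · have hz0 : z = 0 := IsReduced.eq_zero z ⟨2, by rw [pow_two, hmz z hzm]⟩
      exact hqp.ne_top ((Ideal.eq_top_iff_one _).2 (by
        rw [hz, Submodule.mem_colon_singleton, Submodule.mem_bot, hz0, smul_zero]))
    · have hu : IsUnit z := notMem_maximalIdeal.1 hzm
      apply h
      have hm : maximalIdeal (Localization.AtPrime p) = ⊥ := eq_bot_iff.2 fun a ha => (hu.mul_left_eq_zero).1 (hmz a ha)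
      have hf : IsField (Localization.AtPrime p) := isField_iff_maximalIdeal_eq.2 hm
      have := IsLocalization.AtPrime.ringKrullDim_eq_height p (Localization.AtPrime p)
      rw [ringKrullDim_eq_zero_of_isField hf] at this
      exact_mod_cast this.symm
  · rintro ⟨h0, h1⟩
    refine ⟨fun r hr => by_contra fun hr0 => ?_⟩
    obtain ⟨q, hq, hle⟩ := exists_le_isAssociatedPrime_of_isNoetherianRing R r hr0
    haveI := hq.isPrime
    have hd : LocCoh.depth (Localization.AtPrime q) (LocalizedModule q.primeCompl R) = 0 := by
      rw [LocCoh.depth, eq_zero_iff]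
      exact ⟨_, Module.associatedPrimes.mem_associatedPrimes_atPrime_of_mem_associatedPrimes hq, le_rfl⟩
    rw [depth_self] at hd
    have hh : q.height = 0 := by
      have := h1 q
      rw [hd, nonpos_iff_eq_zero] at this
      rcases min_choice ((1 : ℕ) : ℕ∞) q.height with h | h <;> rw [h] at this
      · simp at this
      · exact this
    haveI := h0 q (by simp [hh])
    haveI : Ring.KrullDimLE 0 (Localization.AtPrime q) := by
      rw [Ring.KrullDimLE, Order.krullDimLE_iff]
      change ringKrullDim (Localization.AtPrime q) ≤ 0
      rw [IsLocalization.AtPrime.ringKrullDim_eq_height q, hh]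
      rfl
    have hm : maximalIdeal (Localization.AtPrime q) = ⊥ := by
      rw [← Submodule.spanFinrank_eq_zero_iff_eq_bot (IsNoetherian.noetherian _)]
      have := IsRegularLocalRing.spanFinrank_maximalIdeal (R := Localization.AtPrime q)
      rw [IsLocalization.AtPrime.ringKrullDim_eq_height q, hh] at this
      exact_mod_cast this
    haveI := (isField_iff_maximalIdeal_eq.2 hm).isDomain
    have hz : algebraMap R (Localization.AtPrime q) r = 0 := IsReduced.eq_zero _ (hr.map _)
    obtain ⟨⟨s, hs⟩, hsr⟩ := (IsLocalization.map_eq_zero_iff q.primeCompl _ _).1 hz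
    exact hs (hle (by rw [Submodule.mem_colon_singleton, Submodule.mem_bot, smul_eq_mul]; exact hsr))

end Groth.Agent.IdealDepth.Serre
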